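import Cfsg.Agent.Helper11.SchL34M2.MTab

set_option autoImplicit false
set_option linter.all false
set_option maxRecDepth 1000000
set_option maxHeartbeats 0

namespace Cfsg.Agent.Helper11.SchL34M2

theorem okM6 : OKM (6 * 360) 360 := by decide +kernel
theorem okM7 : OKM (7 * 360) 360 := by decide +kernel

end Cfsg.Agent.Helper11.SchL34M2
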