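import Mathlib
import Cfsg.Agent.Helper19.TCR.Model
import Cfsg.Agent.Helper11.SchL34M2.MChk0
import Cfsg.Agent.Helper11.SchL34M2.MChk1
import Cfsg.Agent.Helper11.SchL34M2.MChk2
import Cfsg.Agent.Helper11.SchL34M2.MChk3

set_option autoImplicit false
set_option linter.all false
set_option maxRecDepth 1000000
set_option maxHeartbeats 0

namespace Cfsg.Agent.Helper11.SchL34M2

open Cfsg.Agent.Helper19.TCS Cfsg.Agent.Helper19.TCM Cfsg.Agent.Helper19.Schur

theorem okM_all : ∀ p, p < 8 → OKM (p * 360) 360 := by
  intro p hp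
  interval_cases p
  · exact okM0
  · exact okM1
  · exact okM2
  · exact okM3
  · exact okM4
  · exact okM5
  · exact okM6
  · exact okM7

theorem okM_row : ∀ i, i < 2880 →
    (∀ l, l < 4 → okEdgeM 2880 4096 4 invMF entM i l = true) ∧ okRelsM 4096 4 entM relsPM i = true := by
  intro i hi
  have hp : i / 360 < 8 := by omega
  have h1 : i / 360 * 360 ≤ i := Nat.div_mul_le_self i 360
  have h2 : i < i / 360 * 360 + 360 := by omega
  exact okRowsM_spec relsPM (i / 360 * 360) 360 (okM_all (i / 360) hp) i h1 h2 hi

theorem modelOK : ModelOK 2880 4096 4 invMF entM where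
  hN := by norm_num
  hmd := by norm_num
  hinv := by
    intro l hl
    interval_cases l <;> rfl
  edge := fun i l hi hl => (okM_row i hi).1 l hl

theorem relsPM_eq : relsPM = relsM.zip phisM := by decide

theorem relsM_ok : ∀ i, i < 2880 → okRelsM 4096 4 entM (relsM.zip phisM) i = true := by
  intro i hi
  rw [← relsPM_eq]
  exact (okM_row i hi).2

end Cfsg.Agent.Helper11.SchL34M2
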